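import Mathlib.RingTheory.Localization.AtPrime.Basic
import Mathlib.Algebra.Module.FinitePresentation
import Mathlib.LinearAlgebra.Quotient.Pi
import Mathlib.RingTheory.Ideal.Quotient.Operations
import Mathlib.LinearAlgebra.Pi
import Mathlib.Tactic.LinearCombination

/-!
Finitely presented modules over a ring whose local rings have totally ordered divisibility are
direct summands of finite sums of cyclically presented modules.
-/

universe u v

namespace Groth.Agent.PureProjH7

variable {R : Type u} [CommRing R]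

/-- `s` times the identity of `M` factors through a finite sum of cyclically presented modules. -/
def Fac (M : Type v) [AddCommGroup M] [Module R M] (s : R) : Prop :=
  ∃ (ι : Type) (_ : Fintype ι) (f : ι → R) (φ : ((i : ι) → R ⧸ Ideal.span {f i}) →ₗ[R] M)
    (ψ : M →ₗ[R] ((i : ι) → R ⧸ Ideal.span {f i})), ∀ x, φ (ψ x) = s • x

variable {M : Type v} [AddCommGroup M] [Module R M]

theorem fac_smul {s : R} (h : Fac M s) (c : R) : Fac M (c * s) := by
  obtain ⟨ι, i, f, φ, ψ, h⟩ := h
  exact ⟨ι, i, f, φ, c • ψ, fun x => by rw [LinearMap.smul_apply, map_smul, h, mul_smul]⟩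

theorem fac_add {s s' : R} (h : Fac M s) (h' : Fac M s') : Fac M (s + s') := by
  obtain ⟨ι, i, f, φ, ψ, h⟩ := h
  obtain ⟨ι', i', f', φ', ψ', h'⟩ := h'
  let f₂ : ι ⊕ ι' → R := Sum.elim f f'
  let p : ((j : ι ⊕ ι') → R ⧸ Ideal.span {f₂ j}) →ₗ[R] ((j : ι) → R ⧸ Ideal.span {f j}) :=
    LinearMap.pi fun j => LinearMap.proj (φ := fun j => R ⧸ Ideal.span {f₂ j}) (Sum.inl j)
  let p' : ((j : ι ⊕ ι') → R ⧸ Ideal.span {f₂ j}) →ₗ[R] ((j : ι') → R ⧸ Ideal.span {f' j}) :=
    LinearMap.pi fun j => LinearMap.proj (φ := fun j => R ⧸ Ideal.span {f₂ j}) (Sum.inr j)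
  let g : M →ₗ[R] ((j : ι ⊕ ι') → R ⧸ Ideal.span {f₂ j}) :=
    LinearMap.pi fun j => match j with
      | .inl a => (LinearMap.proj (φ := fun j => R ⧸ Ideal.span {f j}) a) ∘ₗ ψ
      | .inr b => (LinearMap.proj (φ := fun j => R ⧸ Ideal.span {f' j}) b) ∘ₗ ψ'
  refine ⟨ι ⊕ ι', inferInstance, f₂, φ ∘ₗ p + φ' ∘ₗ p', g, fun x => ?_⟩
  rw [add_smul, ← h x, ← h' x, LinearMap.add_apply, LinearMap.comp_apply, LinearMap.comp_apply]
  rfl

theorem fac_zero : Fac M (0 : R) :=
  ⟨Empty, inferInstance, Empty.elim, 0, 0, fun x => by simp⟩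

/-- Divisibility of `b` by `a` at the prime `m`. -/
def DvdAt (m : Ideal R) (a b : R) : Prop := ∃ t, t ∉ m ∧ a ∣ t * b

theorem dvdAt_refl {m : Ideal R} (hm : m ≠ ⊤) (a : R) : DvdAt m a a :=
  ⟨1, (Ideal.ne_top_iff_one m).mp hm, by rw [one_mul]⟩

theorem dvdAt_trans {m : Ideal R} [m.IsPrime] {a b c : R} (h : DvdAt m a b) (h' : DvdAt m b c) :
    DvdAt m a c := by
  obtain ⟨t, ht, d, hd⟩ := h
  obtain ⟨t', ht', d', hd'⟩ := h'
  refine ⟨t * t', fun hmem => (Ideal.IsPrime.mem_or_mem ‹_› hmem).elim ht ht', d * d', ?_⟩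
  linear_combination t * hd' + d' * hd

theorem dvdAt_total (m : Ideal R) [m.IsPrime]
    (h : ∀ a b : Localization.AtPrime m, a ∣ b ∨ b ∣ a) (a b : R) : DvdAt m a b ∨ DvdAt m b a := by
  have key : ∀ a b : R, algebraMap R (Localization.AtPrime m) a ∣ algebraMap R (Localization.AtPrime m) b →
      DvdAt m a b := by
    rintro a b ⟨c, hc⟩
    obtain ⟨⟨c₀, d⟩, hd⟩ := IsLocalization.surj m.primeCompl c
    have h1 : algebraMap R (Localization.AtPrime m) (b * d) = algebraMap R (Localization.AtPrime m) (a * c₀) := by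
      rw [map_mul, map_mul, hc, ← hd]; ring
    obtain ⟨t, ht⟩ := (IsLocalization.eq_iff_exists m.primeCompl _).mp h1
    exact ⟨t * d, (Submonoid.mul_mem _ t.2 d.2 : (t : R) * d ∈ m.primeCompl), t * c₀, by linear_combination ht⟩
  exact (h _ _).imp (key a b) (key b a)

theorem exists_min {m : Ideal R} [m.IsPrime] (htot : ∀ a b : R, DvdAt m a b ∨ DvdAt m b a)
    {ι : Type*} [Finite ι] [Nonempty ι] (v : ι → R) : ∃ i₀, ∀ i, DvdAt m (v i₀) (v i) := by
  classical
  haveI := Fintype.ofFinite ι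
  suffices ∀ S : Finset ι, S.Nonempty → ∃ i₀ ∈ S, ∀ i ∈ S, DvdAt m (v i₀) (v i) by
    obtain ⟨i₀, -, h⟩ := this Finset.univ Finset.univ_nonempty
    exact ⟨i₀, fun i => h i (Finset.mem_univ _)⟩
  intro S hS
  induction hS using Finset.Nonempty.cons_induction with
  | singleton a => exact ⟨a, Finset.mem_singleton_self a, fun i hi => by
      rw [Finset.mem_singleton] at hi; exact hi ▸ dvdAt_refl (Ideal.IsPrime.ne_top ‹_›) _⟩
  | cons a S ha hS ih =>
    obtain ⟨b, hb, h⟩ := ih
    rcases htot (v a) (v b) with h' | h'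
    · exact ⟨a, Finset.mem_cons_self a S, fun i hi => by
        rcases Finset.mem_cons.mp hi with rfl | hi
        · exact dvdAt_refl (Ideal.IsPrime.ne_top ‹_›) _
        · exact dvdAt_trans h' (h i hi)⟩
    · exact ⟨b, Finset.mem_cons.mpr (Or.inr hb), fun i hi => by
        rcases Finset.mem_cons.mp hi with rfl | hi
        · exact h'
        · exact h i hi⟩

/-- One step of elimination, iterated: the quotient of `R^n` by a finitely generated submodule
is, up to an element outside the prime, a retract of a sum of cyclic modules. -/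
theorem exists_fac_quot {m : Ideal R} [m.IsPrime] (htot : ∀ a b : R, DvdAt m a b ∨ DvdAt m b a) :
    ∀ (n : ℕ) {k : ℕ} (v : Fin (k + 1) → (Fin n → R)),
      ∃ s, s ∉ m ∧ Fac ((Fin n → R) ⧸ Submodule.span R (Set.range v)) s := by
  intro n
  induction n with
  | zero =>
    intro k v
    exact ⟨1, (Ideal.ne_top_iff_one m).mp (Ideal.IsPrime.ne_top ‹_›), Empty, inferInstance, Empty.elim, 0, 0, fun x => by
      obtain ⟨y, rfl⟩ := Submodule.Quotient.mk_surjective _ x
      rw [Subsingleton.elim y 0, Submodule.Quotient.mk_zero, smul_zero]; rfl⟩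
  | succ n ih =>
    intro k v
    classical
    obtain ⟨⟨l₀, i₀⟩, hmin⟩ := exists_min htot (fun p : Fin (k + 1) × Fin (n + 1) => v p.1 p.2)
    choose tt htt c hc using fun p => hmin p
    let t : R := ∏ p, tt p
    have ht : t ∉ m := fun h => by
      obtain ⟨p, -, hp⟩ := (Ideal.IsPrime.prod_mem_iff).mp h
      exact htt p hp
    set a := v l₀ i₀ with ha
    have hC' : ∀ p : Fin (k + 1) × Fin (n + 1), ∃ C, t * v p.1 p.2 = a * C := fun p => by
      refine ⟨(∏ q ∈ Finset.univ.erase p, tt q) * c p, ?_⟩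
      simp only [t, ← Finset.prod_erase_mul Finset.univ tt (Finset.mem_univ p)]
      linear_combination (∏ q ∈ Finset.univ.erase p, tt q) * hc p
    choose C hC using hC'
    let u : Fin (n + 1) → R := fun i => if i = i₀ then t else C (l₀, i)
    have hu₀ : u i₀ = t := if_pos rfl
    have hu : t • v l₀ = a • u := by
      funext i
      by_cases hi : i = i₀
      · simp only [Pi.smul_apply, smul_eq_mul, hi, hu₀, ← ha]; ring
      · simp only [Pi.smul_apply, smul_eq_mul, u, if_neg hi]; exact hC (l₀, i)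
    let w : Fin (k + 1) → Fin (n + 1) → R := fun l => t • v l - C (l, i₀) • v l₀
    have hw₀ : ∀ l, w l i₀ = 0 := fun l => by
      simp only [w, Pi.sub_apply, Pi.smul_apply, smul_eq_mul, hC (l, i₀), ← ha]; ring
    let res : (Fin (n + 1) → R) →ₗ[R] (Fin n → R) := LinearMap.funLeft R R i₀.succAbove
    let ext : (Fin n → R) →ₗ[R] (Fin (n + 1) → R) :=
      LinearMap.pi fun i => if h : i = i₀ then 0 else LinearMap.proj (Classical.choose (Fin.exists_succAbove_eq h))
    have hext : ∀ x : Fin (n + 1) → R, x i₀ = 0 → ext (res x) = x := by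
      intro x hx
      funext i
      by_cases hi : i = i₀
      · simp [ext, hi, hx]
      · simp only [ext, LinearMap.pi_apply, dif_neg hi, LinearMap.proj_apply, res, LinearMap.funLeft_apply]
        exact congrArg x (Classical.choose_spec (Fin.exists_succAbove_eq hi))
    obtain ⟨s, hs, ι, _, f, φ, ψ, hfac⟩ := ih (fun l => res (w l))
    let K := Submodule.span R (Set.range v)
    let K' := Submodule.span R (Set.range fun l => res (w l))
    have hK : ∀ l, v l ∈ K := fun l => Submodule.subset_span ⟨l, rfl⟩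
    let α : R ⧸ Ideal.span {a} →ₗ[R] (Fin (n + 1) → R) ⧸ K :=
      Submodule.liftQ _ ((K.mkQ) ∘ₗ LinearMap.toSpanSingleton R _ u) (by
        rw [Ideal.submodule_span_eq.symm, Submodule.span_le, Set.singleton_subset_iff]
        simp only [SetLike.mem_coe, LinearMap.mem_ker, LinearMap.comp_apply, LinearMap.toSpanSingleton_apply,
          Submodule.mkQ_apply, Submodule.Quotient.mk_eq_zero, ← hu]
        exact K.smul_mem t (hK l₀))
    let β : (Fin n → R) ⧸ K' →ₗ[R] (Fin (n + 1) → R) ⧸ K :=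
      Submodule.liftQ _ (K.mkQ ∘ₗ ext) (by
        rw [Submodule.span_le]
        rintro _ ⟨l, rfl⟩
        simp only [SetLike.mem_coe, LinearMap.mem_ker, LinearMap.comp_apply, hext _ (hw₀ l),
          Submodule.mkQ_apply, Submodule.Quotient.mk_eq_zero]
        exact K.sub_mem (K.smul_mem _ (hK l)) (K.smul_mem _ (hK l₀)))
    let π₁ : (Fin (n + 1) → R) →ₗ[R] R ⧸ Ideal.span {a} :=
      t • ((Ideal.span {a} : Submodule R R).mkQ ∘ₗ LinearMap.proj i₀)
    let π₂ : (Fin (n + 1) → R) →ₗ[R] (Fin n → R) ⧸ K' :=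
      t • (K'.mkQ ∘ₗ res ∘ₗ (t • LinearMap.id - (LinearMap.toSpanSingleton R _ u) ∘ₗ LinearMap.proj i₀))
    have hπ : K ≤ LinearMap.ker (π₁.prod π₂) := by
      rw [Submodule.span_le]
      rintro _ ⟨l, rfl⟩
      simp only [SetLike.mem_coe, LinearMap.mem_ker]
      refine Prod.ext ?_ ?_
      · show t • (Submodule.Quotient.mk (v l i₀) : R ⧸ Ideal.span {a}) = 0
        rw [← Submodule.Quotient.mk_smul, Submodule.Quotient.mk_eq_zero, smul_eq_mul, hC (l, i₀)]
        exact Ideal.mul_mem_right _ _ (Ideal.mem_span_singleton_self a)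
      · show t • (Submodule.Quotient.mk (res (t • v l - v l i₀ • u)) : (Fin n → R) ⧸ K') = 0
        rw [← Submodule.Quotient.mk_smul, Submodule.Quotient.mk_eq_zero, ← map_smul]
        have : t • (t • v l - v l i₀ • u) = t • w l := by
          funext j
          have h5 := congrFun hu j
          simp only [w, Pi.smul_apply, Pi.sub_apply, smul_eq_mul] at h5 ⊢
          linear_combination C (l, i₀) * h5 - u j * hC (l, i₀)
        rw [this, map_smul]
        exact K'.smul_mem t (Submodule.subset_span ⟨l, rfl⟩)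
    let π := K.liftQ _ hπ
    have hαβ : ∀ x, α (π x).1 + β (π x).2 = (t * t) • x := by
      intro x
      obtain ⟨y, rfl⟩ := Submodule.Quotient.mk_surjective _ x
      show α (t • Submodule.Quotient.mk (y i₀)) + β (t • Submodule.Quotient.mk (res (t • y - y i₀ • u))) = _
      rw [map_smul, map_smul, ← smul_add, mul_smul, ← Submodule.Quotient.mk_smul K t y]
      congr 1
      show Submodule.Quotient.mk (y i₀ • u) + Submodule.Quotient.mk (ext (res (t • y - y i₀ • u))) = _
      rw [hext _ (by simp [hu₀, mul_comm]), ← Submodule.Quotient.mk_add, add_sub_cancel]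
    let f₂ : Option ι → R := fun o => o.elim a f
    let p : ((j : Option ι) → R ⧸ Ideal.span {f₂ j}) →ₗ[R] ((j : ι) → R ⧸ Ideal.span {f j}) :=
      LinearMap.pi fun j => LinearMap.proj (φ := fun j => R ⧸ Ideal.span {f₂ j}) (some j)
    let g : ((Fin (n + 1) → R) ⧸ K) →ₗ[R] ((j : Option ι) → R ⧸ Ideal.span {f₂ j}) :=
      LinearMap.pi fun j => match j with
        | none => s • (LinearMap.fst R _ _ ∘ₗ π)
        | some j => (LinearMap.proj (φ := fun j => R ⧸ Ideal.span {f j}) j) ∘ₗ ψ ∘ₗ LinearMap.snd R _ _ ∘ₗ π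
    refine ⟨t * t * s, fun h => ?_, Option ι, inferInstance, f₂,
      α ∘ₗ LinearMap.proj (φ := fun j => R ⧸ Ideal.span {f₂ j}) none + β ∘ₗ φ ∘ₗ p, g, fun x => ?_⟩
    · rcases Ideal.IsPrime.mem_or_mem ‹_› h with h | h
      · exact (Ideal.IsPrime.mem_or_mem ‹_› h).elim ht ht
      · exact hs h
    · show α (s • (π x).1) + β (φ (ψ (π x).2)) = _
      rw [hfac, map_smul, map_smul, ← smul_add, hαβ, ← mul_smul, mul_comm]

/-- A finitely presented module over a locally "divisibility totally ordered" ring is a retract of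
a finite sum of cyclically presented modules. -/
theorem fac_one (h : ∀ (m : Ideal R) [m.IsMaximal], ∀ a b : Localization.AtPrime m, a ∣ b ∨ b ∣ a)
    [Module.FinitePresentation R M] : Fac M (1 : R) := by
  classical
  obtain ⟨n, K, e, hK⟩ := Module.FinitePresentation.exists_fin R M
  obtain ⟨k, v, hv⟩ := Submodule.fg_iff_exists_fin_generating_family.mp hK
  let J : Ideal R :=
    { carrier := {s | Fac M s}
      add_mem' := fac_add
      zero_mem' := fac_zero
      smul_mem' := fun c _ hs => fac_smul hs c }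
  suffices J = ⊤ from (Ideal.eq_top_iff_one J).mp this
  by_contra hne
  obtain ⟨m, hm, hJm⟩ := Ideal.exists_le_maximal J hne
  have hv' : Submodule.span R (Set.range (Fin.cons (0 : Fin n → R) v)) = K := by
    rw [Fin.range_cons, Submodule.span_insert_zero, hv]
  obtain ⟨s, hs, ι, hι, f, φ, ψ, hfac⟩ :=
    exists_fac_quot (dvdAt_total m (h m)) n (Fin.cons (0 : Fin n → R) v)
  let e' := e.trans (Submodule.quotEquivOfEq _ _ hv'.symm)
  refine hs (hJm ⟨ι, hι, f, e'.symm.toLinearMap ∘ₗ φ, ψ ∘ₗ e'.toLinearMap, fun x => ?_⟩)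
  show e'.symm (φ (ψ (e' x))) = s • x
  rw [hfac, map_smul, LinearEquiv.symm_apply_apply]

end Groth.Agent.PureProjH7
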